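import Cfsg.Agent.H389.R.Ctx
import Cfsg.Agent.H748.S3530.Vis
import Cfsg.Agent.H393.S3530.PslLocal
import Cfsg.Agent.ClassicalGeometry.PSL2Basic
import Cfsg.Agent.ClassicalGeometry.PSLTorus

/-!
# S3530: visibility and minimal groups (helper295)
-/

set_option autoImplicit false
set_option linter.unusedSectionVars false

namespace Cfsg.Agent.H389.RSq

open Subgroup
open Cfsg.Agent.H389.JSq (Has)

universe u v

namespace Vm295

open Vis748

/-- an element of order dividing `r` and conjugates of a subgroup -/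
theorem vis_one {Y : Type u} [Group Y] [Finite Y] {K H : Subgroup Y} [K.Normal]
    (hF : ∀ g : Y, ∃ k ∈ K, H.map (MulAut.conj g).toMonoidHom = H.map (MulAut.conj k).toMonoidHom)
    {z : Y} {r : ℕ} (hr : r.Prime) (hz : z ^ r = 1)
    (hrH : ¬ r ∣ (K ⊓ normalizer (H : Set Y)).relIndex K) :
    ∃ k ∈ K, k * z * k⁻¹ ∈ normalizer (H : Set Y) := by
  classical
  have := Fact.mk hr
  let actY : MulAction Y (Om H) := omAct H
  let actK : MulAction K (Om H) := MulAction.compHom _ K.subtype
  let actZ : MulAction (zpowers z) (Om H) := MulAction.compHom _ (zpowers z).subtype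
  have : Finite (Om H) := Subtype.finite
  have htrans : ∀ ω ω' : Om H, ∃ g : K, g • ω = ω' := by
    rintro ⟨_, g, rfl⟩ ⟨_, g', rfl⟩
    obtain ⟨k, hk, hk2⟩ := hF g
    obtain ⟨k', hk', hk2'⟩ := hF g'
    refine ⟨⟨k', hk'⟩ * ⟨k, hk⟩⁻¹, Subtype.ext ?_⟩
    change (H.map (MulAut.conj g).toMonoidHom).map (MulAut.conj (k' * k⁻¹)).toMonoidHom =
      H.map (MulAut.conj g').toMonoidHom
    rw [hk2, hk2', map_map', inv_mul_cancel_right]
  have hcard : Nat.card (Om H) = (K ⊓ normalizer (H : Set Y)).relIndex K := by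
    have : MulAction.IsPretransitive K (Om H) := ⟨htrans⟩
    have h2 : (MulAction.stabilizer K (base H)).index = Nat.card (Om H) :=
      MulAction.index_stabilizer_of_transitive K _
    rw [← h2, Subgroup.relIndex]
    congr 1
    ext g
    rw [MulAction.mem_stabilizer_iff, mem_subgroupOf, mem_inf]
    constructor
    · intro h
      exact ⟨g.2, mem_normalizer_of_map (congrArg Subtype.val h)⟩
    · intro h
      exact Subtype.ext (map_of_mem_normalizer h.2)
  have hZ : IsPGroup r (zpowers z) := by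
    rintro ⟨_, i, rfl⟩
    refine ⟨1, Subtype.ext ?_⟩
    change (z ^ i) ^ (r ^ 1) = 1
    rw [pow_one, ← zpow_natCast, ← zpow_mul, mul_comm, zpow_mul, zpow_natCast, hz, one_zpow]
  obtain ⟨ω₁, hω₁⟩ := hZ.nonempty_fixed_point_of_prime_not_dvd_card (Om H) (by rw [hcard]; exact hrH)
  have hz1 : z • ω₁ = ω₁ := hω₁ ⟨z, mem_zpowers z⟩
  obtain ⟨⟨k, hk⟩, hk1⟩ := htrans (base H) ω₁
  have hk2 : k • base H = ω₁ := hk1
  refine ⟨k⁻¹, K.inv_mem hk, ?_⟩
  apply mem_normalizer_of_map
  have h3 : (k⁻¹ * z * k⁻¹⁻¹) • base H = base H := by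
    rw [inv_inv, mul_smul, hk2, mul_smul, hz1, ← hk2, inv_smul_smul]
  exact congrArg Subtype.val h3

/-- an element of order `p * r` in the preimage of a normalizer -/
theorem has_comap {X Y : Type u} [Group X] [Finite X] [Group Y] [Finite Y] {f : X →* Y}
    (hf : Function.Surjective f) {E H : Subgroup Y} [E.Normal] (hHE : H ≤ E)
    (hF : ∀ g : Y, ∃ k ∈ E, H.map (MulAut.conj g).toMonoidHom = H.map (MulAut.conj k).toMonoidHom)
    {p r : ℕ} (hp : p.Prime) (hr : r.Prime) (hpr : p ≠ r) (hX : Has X (p * r))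
    (hpE : ¬ p ∣ Nat.card E) (hrH : ¬ r ∣ (E ⊓ normalizer (H : Set Y)).relIndex E) :
    Has ((normalizer (H : Set Y)).comap f) (p * r) := by
  have hpH : ¬ p ∣ (E ⊓ normalizer (H : Set Y)).relIndex E := by
    intro h
    exact hpE (h.trans (relIndex_dvd_card _ _))
  obtain ⟨a, b, hab, ha, hb⟩ := has_pair hp hr hX
  have hya : (f a) ^ p = 1 := by rw [← map_pow, ← ha, pow_orderOf_eq_one, map_one]
  have hzb : (f b) ^ r = 1 := by rw [← map_pow, ← hb, pow_orderOf_eq_one, map_one]
  have key : ∃ k ∈ E, k * f a * k⁻¹ ∈ normalizer (H : Set Y) ∧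
      k * f b * k⁻¹ ∈ normalizer (H : Set Y) := by
    by_cases hy1 : f a = 1
    · obtain ⟨k, hk, hkz⟩ := vis_one hF hr hzb hrH
      refine ⟨k, hk, ?_, hkz⟩
      rw [hy1, mul_one, mul_inv_cancel]
      exact one_mem _
    · by_cases hz1 : f b = 1
      · obtain ⟨k, hk, hkz⟩ := vis_one hF hp hya hpH
        refine ⟨k, hk, hkz, ?_⟩
        rw [hz1, mul_one, mul_inv_cancel]
        exact one_mem _
      · have := Fact.mk hp
        have := Fact.mk hr
        exact vis hHE hF hp hr hpr (hab.map f) (orderOf_eq_prime hya hy1)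
          (orderOf_eq_prime hzb hz1) hpE hrH
  obtain ⟨k, -, hka, hkb⟩ := key
  obtain ⟨x, rfl⟩ := hf k
  have hA : x * a * x⁻¹ ∈ (normalizer (H : Set Y)).comap f := by
    rw [mem_comap, map_mul, map_mul, map_inv]
    exact hka
  have hB : x * b * x⁻¹ ∈ (normalizer (H : Set Y)).comap f := by
    rw [mem_comap, map_mul, map_mul, map_inv]
    exact hkb
  refine Has.of_commute (x := (⟨_, hA⟩ : (normalizer (H : Set Y)).comap f))
    (y := (⟨_, hB⟩ : (normalizer (H : Set Y)).comap f)) ?_ ?_ ?_
    ((Nat.coprime_primes hp hr).2 hpr)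
  · apply Subtype.ext
    change x * a * x⁻¹ * (x * b * x⁻¹) = x * b * x⁻¹ * (x * a * x⁻¹)
    have h1 := hab.eq
    calc x * a * x⁻¹ * (x * b * x⁻¹) = x * (a * b) * x⁻¹ := by group
      _ = x * (b * a) * x⁻¹ := by rw [h1]
      _ = x * b * x⁻¹ * (x * a * x⁻¹) := by group
  · rw [← Subgroup.orderOf_coe]
    change orderOf (x * a * x⁻¹) = p
    rw [← ha]
    exact (MulAut.conj x).orderOf_eq a
  · rw [← Subgroup.orderOf_coe]
    change orderOf (x * b * x⁻¹) = r
    rw [← hb]
    exact (MulAut.conj x).orderOf_eq b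

section sylow

variable {Y : Type u} [Group Y] [Finite Y] {E : Subgroup Y} [E.Normal] (T : Sylow 3 E)

omit [Finite Y] in
theorem sub_le : (T : Subgroup E).map E.subtype ≤ E := by
  rintro _ ⟨t, -, rfl⟩
  exact t.2

theorem frattini (g : Y) : ∃ k ∈ E,
    ((T : Subgroup E).map E.subtype).map (MulAut.conj g).toMonoidHom =
      ((T : Subgroup E).map E.subtype).map (MulAut.conj k).toMonoidHom := by
  have := Fact.mk Nat.prime_three
  have h1 : g ∈ E ⊔ normalizer ((T : Subgroup E).map E.subtype : Set Y) := by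
    rw [sup_comm]
    have h2 := Sylow.normalizer_sup_eq_top T
    rw [h2]
    exact mem_top g
  obtain ⟨k, hk, n, hn, rfl⟩ := mem_sup_of_normal_left.1 h1
  refine ⟨k, hk, ?_⟩
  rw [← map_map', map_of_mem_normalizer hn]

omit [Finite Y] in
theorem relIndex_eq : (E ⊓ normalizer (((T : Subgroup E).map E.subtype : Subgroup Y) : Set Y)).relIndex E =
    (normalizer ((T : Subgroup E) : Set E)).index := by
  rw [inf_comm, inf_relIndex_right, Subgroup.relIndex, subgroupOf_normalizer_eq (sub_le T)]
  have h1 : ((T : Subgroup E).map E.subtype).subgroupOf E = (T : Subgroup E) :=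
    comap_map_eq_self_of_injective E.subtype_injective _
  rw [h1]

theorem not_three_dvd :
    ¬ 3 ∣ (E ⊓ normalizer (((T : Subgroup E).map E.subtype : Subgroup Y) : Set Y)).relIndex E := by
  have := Fact.mk Nat.prime_three
  rw [relIndex_eq]
  intro h
  exact T.not_dvd_index (h.trans (index_dvd_of_le le_normalizer))

end sylow

end Vm295

open Vm295

section

variable {m : ℕ} {X Y : Type u} [Group X] [Finite X] [Group Y] [Finite Y] {f : X →* Y}

theorem Min.sylow_three_normal {σ : Fin 5 → ℕ} (h : Min m σ X) (hf : Function.Surjective f) {E : Subgroup Y} [E.Normal]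
    (hE : ∀ i, i ≠ 0 → ¬ σ i ∣ Nat.card E) (T : Sylow 3 E) : ((T : Subgroup E).map E.subtype).Normal := by
  set H : Subgroup Y := (T : Subgroup E).map E.subtype with hH
  have key : ∀ i j, i ≠ 0 → i ≠ j → Has ((normalizer (H : Set Y)).comap f) (σ i * σ j) := by
    intro i j hi hij
    refine has_comap hf (sub_le T) (frattini T) (h.sig.prime i) (h.sig.prime j) (h.sig.ne hij)
      (h.k5 i j hij) (hE i hi) ?_
    by_cases hj : j = 0
    · subst hj
      rw [h.sig.zero]
      exact not_three_dvd T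
    · intro h1
      exact hE j hj (h1.trans (relIndex_dvd_card _ _))
  have hK5 : K5 σ ((normalizer (H : Set Y)).comap f) := by
    intro i j hij
    by_cases hi : i = 0
    · rw [mul_comm]
      exact key j i (fun hj => hij (by rw [hi, hj])) hij.symm
    · exact key i j hi hij
  have htop := h.min _ hK5
  rw [← normalizer_eq_top_iff, ← map_comap_eq_self_of_surjective hf (normalizer (H : Set Y)), htop,
    ← MonoidHom.range_eq_map, MonoidHom.range_eq_top.2 hf]

theorem M0.not_two_classes {σ : Fin 5 → ℕ} (h : M0 m σ f) {E : Subgroup Y} [E.Normal] (hYE : Group.IsSolvable (Y ⧸ E))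
    (T : Sylow 3 E) (hT : Group.IsSolvable (normalizer ((T : Subgroup E) : Set E))) (t : Fin 5)
    (hE : ∀ i, i ≠ 0 → i ≠ t → ¬ σ i ∣ Nat.card E) : False := by
  set H : Subgroup Y := (T : Subgroup E).map E.subtype with hH
  have key : ∀ i j, i ≠ t → j ≠ t → i ≠ 0 → i ≠ j →
      Has ((normalizer (H : Set Y)).comap f) (σ i * σ j) := by
    intro i j hit hjt hi hij
    refine has_comap h.surj (sub_le T) (frattini T) (h.sig.prime i) (h.sig.prime j) (h.sig.ne hij)
      (h.k5 i j hij) (hE i hi hit) ?_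
    by_cases hj : j = 0
    · subst hj
      rw [h.sig.zero]
      exact not_three_dvd T
    · intro h1
      exact hE j hj hjt (h1.trans (relIndex_dvd_card _ _))
  have hK : ∀ i j, i ≠ t → j ≠ t → i ≠ j → Has ((normalizer (H : Set Y)).comap f) (σ i * σ j) := by
    intro i j hit hjt hij
    by_cases hi : i = 0
    · rw [mul_comm]
      exact key j i hjt hit (fun hj => hij (by rw [hi, hj])) hij.symm
    · exact key i j hit hjt hi hij
  -- solvability
  have hNE : Group.IsSolvable ((E.subgroupOf (normalizer (H : Set Y))) : Subgroup _) := by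
    have h2 : ((normalizer (H : Set Y)).subgroupOf E) = normalizer ((T : Subgroup E) : Set E) := by
      rw [hH, subgroupOf_normalizer_eq (sub_le T)]
      have h1 : ((T : Subgroup E).map E.subtype).subgroupOf E = (T : Subgroup E) :=
        comap_map_eq_self_of_injective E.subtype_injective _
      rw [h1]
    have h3 : Group.IsSolvable ((normalizer (H : Set Y)).subgroupOf E) := by rw [h2]; exact hT
    let g : ↥(E.subgroupOf (normalizer (H : Set Y))) →* ↥((normalizer (H : Set Y)).subgroupOf E) :=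
      { toFun := fun x => ⟨⟨((x : normalizer (H : Set Y)) : Y), mem_subgroupOf.1 x.2⟩,
          mem_subgroupOf.2 (x : normalizer (H : Set Y)).2⟩
        map_one' := rfl
        map_mul' := fun _ _ => rfl }
    refine Group.isSolvable_of_isSolvable_injective (f := g) ?_
    intro x y hxy
    apply Subtype.ext
    apply Subtype.ext
    exact congrArg (fun z : ↥((normalizer (H : Set Y)).subgroupOf E) => ((z : E) : Y)) hxy
  have hN : Group.IsSolvable (normalizer (H : Set Y)) := by
    refine Group.isSolvable_of_ker_le_range (E.subgroupOf (normalizer (H : Set Y))).subtype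
      ((QuotientGroup.mk' E).comp (normalizer (H : Set Y)).subtype) ?_
    intro x hx
    rw [MonoidHom.mem_ker, MonoidHom.comp_apply, QuotientGroup.mk'_apply,
      QuotientGroup.eq_one_iff] at hx
    exact ⟨⟨x, mem_subgroupOf.2 hx⟩, rfl⟩
  have hM : Group.IsSolvable ((normalizer (H : Set Y)).comap f) := by
    have h4 := h.solv
    let g : ↥((normalizer (H : Set Y)).comap f) →* ↥(normalizer (H : Set Y)) :=
      (f.comp ((normalizer (H : Set Y)).comap f).subtype).codRestrict _ (fun x => x.2)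
    have hle : f.ker ≤ (normalizer (H : Set Y)).comap f := by
      intro x hx
      rw [mem_comap, MonoidHom.mem_ker.1 hx]
      exact one_mem _
    refine Group.isSolvable_of_ker_le_range (inclusion hle) g ?_
    intro x hx
    have hx1 : f (x : X) = 1 := congrArg Subtype.val (MonoidHom.mem_ker.1 hx)
    exact ⟨⟨x, MonoidHom.mem_ker.2 hx1⟩, rfl⟩
  exact (h.cl.subgroup ((normalizer (H : Set Y)).comap f)).solv4 h.sig hM hK

namespace Vm295

theorem odd_two_pow {e : ℕ} (he : e ≠ 0) : Odd (2 ^ e - 1) := by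
  obtain ⟨k, rfl⟩ := Nat.exists_eq_succ_of_ne_zero he
  refine ⟨2 ^ k - 1, ?_⟩
  have := Nat.one_le_two_pow (n := k)
  rw [Nat.succ_eq_add_one, pow_succ]
  omega

theorem card_even {K : Type u} [Group K] [Finite K] {e : ℕ} (he : e ≠ 0) (h : IsPSL 2 e K) :
    Nat.card K = 2 ^ e * (2 ^ e - 1) * (2 ^ e + 1) := by
  obtain ⟨-, F, _, _, hF, ⟨φ⟩⟩ := h
  have h1 := Cfsg.Agent.ClassicalGeometry.PSL2Basic.card_PSL2_gcd F
  have hg : Nat.gcd 2 (Fintype.card F - 1) = 1 := by
    rw [hF]
    exact Nat.coprime_two_left.2 (odd_two_pow he)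
  rw [hg, mul_one, hF] at h1
  rw [Nat.card_congr φ.toEquiv, h1]
  have h2 := Nat.sq_sub_sq (2 ^ e) 1
  rw [one_pow] at h2
  rw [h2]
  ring

theorem simple_even {K : Type u} [Group K] [Finite K] {e : ℕ} (he : 3 ≤ e) (h : IsPSL 2 e K) :
    IsSimpleGroup K := by
  obtain ⟨-, F, _, _, hF, ⟨φ⟩⟩ := h
  have h1 : IsSimpleGroup (Matrix.ProjectiveSpecialLinearGroup (Fin 2) F) :=
    Matrix.ProjectiveSpecialLinearGroup.rank_two_simple (by
      rw [Nat.card_eq_fintype_card, hF]
      exact (by norm_num : 4 ≤ 2 ^ 3).trans (Nat.pow_le_pow_right (by norm_num) he))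
  exact (MulEquiv.isSimpleGroup_congr φ).2 h1

/-- the cyclic torus of order `2 ^ e + 1` -/
theorem exists_torus {K : Type u} [Group K] [Finite K] {e : ℕ} (he : e ≠ 0) (h : IsPSL 2 e K) :
    ∃ C : Subgroup K, IsCyclic C ∧ Nat.card C = 2 ^ e + 1 := by
  obtain ⟨-, F, _, _, hF, ⟨φ⟩⟩ := h
  obtain ⟨C, -, -, -, hC, hcard, -⟩ := Cfsg.Agent.ClassicalGeometry.PSLTorus.exists_psl_torus F
  have hg : Nat.gcd 2 (Fintype.card F - 1) = 1 := by
    rw [hF]
    exact Nat.coprime_two_left.2 (odd_two_pow he)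
  rw [hg, Nat.div_one, hF] at hcard
  let ψ : C ≃* (C.map φ.symm.toMonoidHom : Subgroup K) := φ.symm.subgroupMap C
  refine ⟨C.map φ.symm.toMonoidHom, ?_, ?_⟩
  · exact isCyclic_of_surjective ψ.toMonoidHom ψ.surjective
  · rw [← hcard]
    exact (Nat.card_congr ψ.toEquiv).symm

open scoped Pointwise in
theorem torus_three {K : Type u} [Group K] [Finite K] {e : ℕ} (he : Odd e) (h : IsPSL 2 e K)
    (hcard : Nat.card K = 2 ^ e * (2 ^ e - 1) * (2 ^ e + 1)) (T : Sylow 3 K) {n : ℕ}
    (hn : n ∣ 2 ^ e + 1) : ∃ x ∈ normalizer ((T : Subgroup K) : Set K), orderOf x = n := by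
  have := Fact.mk Nat.prime_three
  have he0 : e ≠ 0 := by rintro rfl; exact absurd he (by decide)
  obtain ⟨C, hC, hCc⟩ := exists_torus he0 h
  have h3 : 3 ∣ 2 ^ e + 1 := by
    have := Odd.nat_add_dvd_pow_add_pow 2 1 he
    rwa [one_pow] at this
  have hidx : ¬ 3 ∣ C.index := by
    have h1 := C.card_mul_index
    rw [hcard, hCc, mul_comm] at h1
    have h2 : C.index = 2 ^ e * (2 ^ e - 1) := Nat.eq_of_mul_eq_mul_right (by positivity) h1
    rw [h2]
    intro h4
    rcases (Nat.Prime.dvd_mul Nat.prime_three).1 h4 with h5 | h5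
    · have := Nat.prime_three.dvd_of_dvd_pow h5
      omega
    · have := Nat.one_le_two_pow (n := e)
      omega
  obtain ⟨S⟩ : Nonempty (Sylow 3 C) := inferInstance
  have hS : IsPGroup 3 ((S : Subgroup C).map C.subtype) := S.isPGroup'.map _
  have hSi : ¬ 3 ∣ ((S : Subgroup C).map C.subtype).index := by
    rw [index_map_subtype]
    intro h4
    rcases (Nat.Prime.dvd_mul Nat.prime_three).1 h4 with h5 | h5
    · exact S.not_dvd_index h5
    · exact hidx h5
  obtain ⟨g, hg⟩ := MulAction.exists_smul_eq K (hS.toSylow hSi) T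
  obtain ⟨c, hc⟩ := IsCyclic.exists_ofOrder_eq_natCard (α := C)
  obtain ⟨x, hx⟩ : Has C n := Has.of_dvd_orderOf (g := c) (by rw [hc, hCc]; exact hn)
  refine ⟨g * x * g⁻¹, ?_, ?_⟩
  · have hcomm : ∀ a b : C, a * b = b * a := fun a b => by
      let _ := hC.commGroup
      exact mul_comm a b
    rw [← hg]
    have h6 : ∀ y : K, y ∈ ((g • hS.toSylow hSi : Sylow 3 K) : Subgroup K) ↔
        g⁻¹ * y * g ∈ (S : Subgroup C).map C.subtype := by
      intro y
      change y ∈ MulAut.conj g • ((S : Subgroup C).map C.subtype) ↔ _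
      rw [Subgroup.mem_pointwise_smul_iff_inv_smul_mem, ← map_inv, MulAut.smul_def,
        MulAut.conj_apply, inv_inv]
    rw [mem_normalizer_iff]
    intro y
    rw [h6, h6]
    have hz : ∀ z ∈ (S : Subgroup C).map C.subtype, (x : K) * z * (x : K)⁻¹ = z := by
      rintro _ ⟨w, -, rfl⟩
      have h7 := congrArg (fun v : C => (v : K)) (hcomm x w)
      change (x : K) * (w : K) = (w : K) * (x : K) at h7
      change (x : K) * (w : K) * (x : K)⁻¹ = w
      rw [h7, mul_inv_cancel_right]
    have h8 : g⁻¹ * (g * (x : K) * g⁻¹ * y * (g * (x : K) * g⁻¹)⁻¹) * g =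
        (x : K) * (g⁻¹ * y * g) * (x : K)⁻¹ := by group
    rw [h8]
    constructor
    · intro h9
      rw [hz _ h9]
      exact h9
    · intro h9
      have h10 : g⁻¹ * y * g = (x : K)⁻¹ * ((x : K) * (g⁻¹ * y * g) * (x : K)⁻¹) * (x : K) := by group
      rw [h10]
      have h11 := hz _ h9
      obtain ⟨w, hw, hw2⟩ := h9
      rw [← hw2]
      refine ⟨w, hw, ?_⟩
      have h7 := congrArg (fun v : C => (v : K)) (hcomm x w)
      change (x : K) * (w : K) = (w : K) * (x : K) at h7
      change (w : K) = (x : K)⁻¹ * (w : K) * (x : K)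
      rw [mul_assoc, ← h7, inv_mul_cancel_left]
  · rw [← hx, ← Subgroup.orderOf_coe]
    exact (MulAut.conj g).orderOf_eq (x : K)

end Vm295

theorem Min.exists_minus {σ : Fin 5 → ℕ} (h : Min m σ X) (hf : Function.Surjective f) {K : Subgroup Y} [K.Normal] {e : ℕ}
    (hK : IsL2 2 e K) : ∃ i, σ i ∣ 2 ^ e - 1 := by
  by_contra hno
  push Not at hno
  have := Fact.mk Nat.prime_three
  have he0 : e ≠ 0 := by
    intro h0
    have := hK.odd
    rw [h0] at this
    exact absurd this (by decide)
  have he3 : 3 ≤ e := by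
    rcases hK.type with ⟨-, h1⟩ | ⟨h1, -⟩
    · exact h1
    · exact absurd rfl h1
  have hcard : Nat.card K = 2 ^ e * (2 ^ e - 1) * (2 ^ e + 1) := card_even he0 hK.psl
  have h3 : 3 ∣ 2 ^ e + 1 := by
    have := Odd.nat_add_dvd_pow_add_pow 2 1 hK.odd
    rwa [one_pow] at this
  obtain ⟨T⟩ : Nonempty (Sylow 3 K) := inferInstance
  set H : Subgroup Y := (T : Subgroup K).map K.subtype with hH
  have hTH : H.subgroupOf K = (T : Subgroup K) := comap_map_eq_self_of_injective K.subtype_injective _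
  have hdvd : ∀ i, σ i ∣ Nat.card K → σ i ∣ 2 ^ e + 1 := by
    intro i hi
    rw [hcard] at hi
    rcases (h.sig.prime i).dvd_mul.1 hi with h1 | h1
    · rcases (h.sig.prime i).dvd_mul.1 h1 with h2 | h2
      · have h4 := (h.sig.prime i).dvd_of_dvd_pow h2
        exact absurd ((Nat.prime_dvd_prime_iff_eq (h.sig.prime i) Nat.prime_two).1 h4) (h.sig.ne_two i)
      · exact absurd h2 (hno i)
    · exact h1
  have hidx : ∀ j, ¬ σ j ∣ (K ⊓ normalizer (H : Set Y)).relIndex K := by
    intro j
    rw [hH, relIndex_eq]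
    exact hK.not_dvd_index (r := 3) (by norm_num) h3 (h.sig.prime j) (h.sig.ne_two j)
      (h.sig.ne_two j) (hno j) T
  have key : ∀ i j, i ≠ j → ¬ σ i ∣ Nat.card K →
      Has ((normalizer (H : Set Y)).comap f) (σ i * σ j) := by
    intro i j hij hi
    exact has_comap hf (sub_le T) (frattini T) (h.sig.prime i) (h.sig.prime j) (h.sig.ne hij)
      (h.k5 i j hij) hi (hidx j)
  have hK5 : K5 σ ((normalizer (H : Set Y)).comap f) := by
    intro i j hij
    by_cases hi : σ i ∣ Nat.card K
    · by_cases hj : σ j ∣ Nat.card K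
      · have hd : σ i * σ j ∣ 2 ^ e + 1 :=
          (h.sig.coprime hij).mul_dvd_of_dvd_of_dvd (hdvd i hi) (hdvd j hj)
        obtain ⟨x, hx, hxo⟩ := torus_three hK.odd hK.psl hcard T hd
        have hxH : (x : Y) ∈ normalizer (H : Set Y) := by
          have h1 : x ∈ (normalizer (H : Set Y)).subgroupOf K := by
            rw [hH, subgroupOf_normalizer_eq (sub_le T), ← hH, hTH]
            exact hx
          exact mem_subgroupOf.1 h1
        have hN : Has (normalizer (H : Set Y)) (σ i * σ j) :=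
          ⟨⟨(x : Y), hxH⟩, by rw [← Subgroup.orderOf_coe, ← hxo, ← Subgroup.orderOf_coe]⟩
        let g : ↥((normalizer (H : Set Y)).comap f) →* ↥(normalizer (H : Set Y)) :=
          (f.comp ((normalizer (H : Set Y)).comap f).subtype).codRestrict _ (fun x => x.2)
        refine Has.of_surjective g ?_ hN
        rintro ⟨y, hy⟩
        obtain ⟨x', rfl⟩ := hf y
        exact ⟨⟨x', hy⟩, rfl⟩
      · rw [mul_comm]
        exact key j i hij.symm hj
    · exact key i j hij hi
  have htop := h.min _ hK5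
  have hN : normalizer (H : Set Y) = ⊤ := by
    rw [← map_comap_eq_self_of_surjective hf (normalizer (H : Set Y)), htop,
      ← MonoidHom.range_eq_map, MonoidHom.range_eq_top.2 hf]
  have hHn : H.Normal := normalizer_eq_top_iff.1 hN
  have hTn : (T : Subgroup K).Normal := by
    rw [← hTH]
    exact hHn.subgroupOf K
  have hsimple := simple_even he3 hK.psl
  have h3K : 3 ∣ Nat.card K := by rw [hcard]; exact h3.mul_left _
  rcases hTn.eq_bot_or_eq_top with h1 | h1
  · have h2 := T.card_eq_multiplicity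
    have h4 : Nat.card (T : Subgroup K) = 1 := by rw [h1, card_bot]
    rw [show Nat.card T = Nat.card (T : Subgroup K) from rfl, h4] at h2
    have h5 : 1 ≤ (Nat.card K).factorization 3 :=
      (Nat.prime_three.dvd_iff_one_le_factorization Nat.card_pos.ne').1 h3K
    have h6 : 3 ^ 1 ≤ 3 ^ (Nat.card K).factorization 3 := Nat.pow_le_pow_right (by norm_num) h5
    omega
  · have h2 : IsPGroup 3 K := by
      have h4 := T.isPGroup'
      rw [h1] at h4
      exact h4.of_equiv topEquiv
    obtain ⟨n, hn⟩ := IsPGroup.iff_card.1 h2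
    have h5 : 2 ∣ Nat.card K := by
      rw [hcard]
      exact ((dvd_pow_self 2 he0).mul_right _).mul_right _
    rw [hn] at h5
    have h6 := Nat.prime_two.dvd_of_dvd_pow h5
    omega

end

end Cfsg.Agent.H389.RSq
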